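import Groth.Agent.Lib.ModLimH13.Flat
import Groth.Agent.Lib.CMReg18.PushKvb
import Groth.Agent.Lib.CMReg18.RegPn
import Groth.Agent.Lib.CohFound.ClosedImmPush
import Groth.Agent.Lib.CohFound.HHBridge
import Groth.Agent.Lib.StQC14.FinPushGen
import Groth.Agent.Lib.Cyc26.PushFin
import Groth.Agent.Lib.PnKoszul9.TwistD
import Groth.Agent.Lib.PullBC11.AffineBC
import Groth.Agent.Lib.MumVan22.ChiTwist
import Groth.Agent.Lib.ModM1.PullSpec
import Groth.Agent.Lib.Growth13.Bound
import Groth.Agent.Lib.CubeField.Fin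

/-!
# Cohomology along the filtration of a constant family of infinitesimal neighbourhoods
-/

set_option autoImplicit false
set_option linter.style.haveILetI false
set_option linter.unusedSectionVars false
set_option backward.isDefEq.respectTransparency false
set_option backward.isDefEq.respectTransparency.types false
set_option maxHeartbeats 1000000

universe u

open CategoryTheory CategoryTheory.Limits AlgebraicGeometry TopologicalSpace Opposite

noncomputable section

namespace Groth.Agent.PP13

variable {k : Type u} [Field k]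

/-- Tensoring with an invertible module keeps short exact sequences. -/
theorem shortExact_tensor {X : Scheme.{u}} {T : X.Modules} (hT : PicF.IsInvertible T)
    {S : ShortComplex X.Modules} (hS : S.ShortExact) : (S.map (DCoh.tensorRightMod T)).ShortExact := by
  haveI := PnKoszul9.isEquivalence_tensorRightMod T hT
  exact hS.map_of_exact _

/-- Flat pullback keeps short exact sequences. -/
theorem shortExact_pullback {X Y : Scheme.{u}} (f : Y ⟶ X) [Flat f]
    {S : ShortComplex X.Modules} (hS : S.ShortExact) : (S.map (Scheme.Modules.pullback f)).ShortExact := by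
  haveI := ModLimH13.preservesFiniteLimits_pullback_of_flat f
  haveI : PreservesFiniteColimits (Scheme.Modules.pullback f) := KFlat.Sch.preservesFiniteColimits_pullback f
  exact hS.map_of_exact _

/-- Affine direct images keep short exact sequences of quasi-coherent modules. -/
theorem shortExact_push {X Y : Scheme.{u}} (f : X ⟶ Y) [IsAffineHom f] {S : ShortComplex X.Modules}
    (hS : S.ShortExact) (h₂ : Coh.IsQCoh S.X₂) (h₃ : Coh.IsQCoh S.X₃) :
    (S.map (Scheme.Modules.pushforward f)).ShortExact := by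
  haveI : (Scheme.Modules.pushforward f).IsRightAdjoint :=
    (Scheme.Modules.pullbackPushforwardAdjunction f).isRightAdjoint
  haveI : (Scheme.Modules.pushforward f).Additive :=
    (Scheme.Modules.pullbackPushforwardAdjunction f).right_adjoint_additive
  haveI := hS.mono_f
  haveI := hS.epi_g
  haveI : PreservesFiniteLimits (Scheme.Modules.pushforward f) :=
    haveI : PreservesLimitsOfSize.{0, 0} (Scheme.Modules.pushforward f) :=
      (Scheme.Modules.pullbackPushforwardAdjunction f).rightAdjoint_preservesLimits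
    PreservesLimitsOfSize.preservesFiniteLimits _
  exact ShortComplex.ShortExact.mk' (hS.exact.map_of_mono_of_preservesKernel _ hS.mono_f inferInstance)
    (inferInstanceAs (Mono ((Scheme.Modules.pushforward f).map S.f)))
    (StQC14.epi_pushforward_map f h₂ h₃ S.g)

/-- The Euler characteristic of a module without higher cohomology. -/
theorem finrank_eq_euler {X : Scheme.{u}} [X.Over (Spec (CommRingCat.of k))] {M : X.Modules}
    (h : ∀ j : ℕ, 1 ≤ j → Subsingleton (Coh.HH X M j)) :
    (Module.finrank k (Coh.HH X M 0) : ℤ) = Curv2.euler k X M := by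
  rw [Curv2.euler, finsum_eq_single _ 0 fun j hj => by
    haveI := h j (Nat.pos_of_ne_zero hj)
    rw [Module.finrank_zero_of_subsingleton, Nat.cast_zero, mul_zero]]
  simp

/-- Higher cohomology of an extension. -/
theorem subsingleton_mid {X : Scheme.{u}} [X.Over (Spec (CommRingCat.of k))] {S : ShortComplex X.Modules}
    (hS : S.ShortExact) (j : ℕ) (h₁ : Subsingleton (Coh.HH X S.X₁ j)) (h₃ : Subsingleton (Coh.HH X S.X₃ j)) :
    Subsingleton (Coh.HH X S.X₂ j) := by
  refine subsingleton_of_forall_eq 0 fun x => ?_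
  obtain ⟨y, rfl⟩ := (CurveCoh17.exact_hmap_hmap k hS j x).1 (Subsingleton.elim _ _)
  rw [Subsingleton.elim y 0, map_zero]

variable {X X' Z : Scheme.{u}} {R : CommRingCat.{u}} [IsNoetherianRing R]
  (ψ : Z ⟶ Spec R) (p₁ : Z ⟶ X) (M : Z.Modules) (b : X' ⟶ X) (T : X'.Modules)

/-- The family attached to a module over the base. -/
def fam (N : ModuleCat.{u} R) : X'.Modules :=
  (DCoh.tensorRightMod T).obj ((Scheme.Modules.pullback b).obj ((Scheme.Modules.pushforward p₁).obj
    ((DCoh.tensorRightMod M).obj ((Scheme.Modules.pullback ψ).obj ((tilde.functor R).obj N)))))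

theorem isCoh_tilde (N : ModuleCat.{u} R) [Module.Finite R N] : Coh.IsCoh ((tilde.functor R).obj N) := by
  have hq : Coh.IsQCoh ((tilde.functor R).obj N) := inferInstanceAs ((tilde.functor R).obj N).IsQuasicoherent
  exact ⟨hq, (M1.isFT_iff_finite_spec _ hq).2
    (Module.Finite.equiv (M := (N : Type u)) (tilde.toTildeΓNatIso.app N).toLinearEquiv)⟩

theorem isCoh_tensorRight {Y : Scheme.{u}} {L F : Y.Modules} (hL : PicF.IsInvertible L) (hF : Coh.IsCoh F) :
    Coh.IsCoh ((DCoh.tensorRightMod L).obj F) :=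
  CohFound.isCoh_tensor hF (CubeField.isCoh_of_isInvertible hL)

variable [IsLocallyNoetherian Z] [IsLocallyNoetherian X] [IsLocallyNoetherian X']

theorem isCoh_fam [IsFinite p₁] (hM : PicF.IsInvertible M) (hT : PicF.IsInvertible T) (N : ModuleCat.{u} R)
    [Module.Finite R N] : Coh.IsCoh (fam ψ p₁ M b T N) :=
  isCoh_tensorRight hT (M1.isCoh_pullback _ (Cyc26.isCoh_push_finite p₁
    (isCoh_tensorRight hM (M1.isCoh_pullback _ (isCoh_tilde N)))))

theorem shortExact_fam [Flat ψ] [Flat b] [IsAffineHom p₁] (hM : PicF.IsInvertible M) (hT : PicF.IsInvertible T)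
    {S : ShortComplex (ModuleCat.{u} R)} (hS : S.ShortExact) [Module.Finite R S.X₂] :
    ∃ U : ShortComplex X'.Modules, U.ShortExact ∧ U.X₁ = fam ψ p₁ M b T S.X₁ ∧ U.X₂ = fam ψ p₁ M b T S.X₂ ∧
      U.X₃ = fam ψ p₁ M b T S.X₃ := by
  haveI : PreservesFiniteLimits (tilde.functor R) := M1.tilde_preservesFiniteLimits
  haveI : (tilde.functor R).Additive := inferInstance
  haveI := hS.epi_g
  haveI : Module.Finite R S.X₃ := Module.Finite.of_surjective S.g.hom ((ModuleCat.epi_iff_surjective _).1 ‹_›)
  have h := shortExact_tensor hM (shortExact_pullback ψ (hS.map_of_exact (tilde.functor R)))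
  have h' := shortExact_push p₁ h
    (isCoh_tensorRight hM (M1.isCoh_pullback _ (isCoh_tilde S.X₂))).1
    (isCoh_tensorRight hM (M1.isCoh_pullback _ (isCoh_tilde S.X₃))).1
  exact ⟨_, shortExact_tensor hT (shortExact_pullback b h'), rfl, rfl, rfl⟩

theorem nonempty_fam_self (hM : PicF.IsInvertible M) :
    Nonempty (fam ψ p₁ M b T (ModuleCat.of R R) ≅
      CohB1.tensorMod ((Scheme.Modules.pullback b).obj ((Scheme.Modules.pushforward p₁).obj M)) T) :=
  ⟨(DCoh.tensorRightMod T).mapIso ((Scheme.Modules.pullback b).mapIso ((Scheme.Modules.pushforward p₁).mapIso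
    ((DCoh.tensorRightMod M).mapIso ((Scheme.Modules.pullback ψ).mapIso (tildeSelf (R := R)) ≪≫
      PicLoc.pullbackStructureIso ψ) ≪≫ M2.tensorLUnit M)))⟩

/-- The structure module of a point, as a module over the base. -/
theorem exists_point_module [IsLocallyNoetherian (Spec R)] (ev : R ⟶ CommRingCat.of k) (hev : Function.Surjective ev.hom) :
    Nonempty ((tilde.functor R).obj (ModuleCat.of R (R ⧸ RingHom.ker ev.hom)) ≅
      (Scheme.Modules.pushforward (Spec.map ev)).obj (Coh.structureModule (Spec (CommRingCat.of k)))) := by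
  let Q : ModuleCat.{u} (CommRingCat.of k) := ModuleCat.of (CommRingCat.of k) (CommRingCat.of k)
  letI : Algebra R k := ev.hom.toAlgebra
  let l : (R ⧸ RingHom.ker ev.hom) ≃ₗ[R] k :=
    (Submodule.quotEquivOfEq _ _ (by ext r; simp [RingHom.mem_ker]; rfl)).trans
      (LinearMap.quotKerEquivOfSurjective (Algebra.linearMap R k) hev)
  let e : ModuleCat.of R (R ⧸ RingHom.ker ev.hom) ≅ (ModuleCat.restrictScalars ev.hom).obj Q :=
    LinearEquiv.toModuleIso
      ({ l with map_smul' := fun r x => l.map_smul r x } :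
        (R ⧸ RingHom.ker ev.hom) ≃ₗ[R] (ModuleCat.restrictScalars ev.hom).obj Q)
  haveI : ((Scheme.Modules.pushforward (Spec.map ev)).obj (tilde Q)).IsQuasicoherent :=
    M1.isQCoh_push (Spec.map ev) (by show (tilde Q).IsQuasicoherent; infer_instance)
  exact ⟨(tilde.functor R).mapIso (e ≪≫ ((M1.pushΓIso ev).app (tilde Q) ≪≫
      (ModuleCat.restrictScalars ev.hom).mapIso (tilde.toTildeΓNatIso.app Q).symm).symm) ≪≫
      @asIso _ _ _ _ ((Scheme.Modules.pushforward (Spec.map ev)).obj (tilde Q)).fromTildeΓ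
        (Scheme.Modules.isIso_fromTildeΓ_of_isQuasicoherent (R := R) _) ≪≫
      (Scheme.Modules.pushforward (Spec.map ev)).mapIso (tildeSelf (R := CommRingCat.of k))⟩

/-- The family of the point. -/
theorem nonempty_fam_point [Flat ψ] (ev : R ⟶ CommRingCat.of k) (hev : Function.Surjective ev.hom)
    [IsLocallyNoetherian (Spec R)] (hM : PicF.IsInvertible M) (q : X ⟶ Spec (CommRingCat.of k)) (i : X ⟶ Z)
    (hi : i ≫ p₁ = 𝟙 X) (h : IsPullback i q ψ (Spec.map ev)) :
    Nonempty (fam ψ p₁ M b T (ModuleCat.of R (R ⧸ RingHom.ker ev.hom)) ≅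
      CohB1.tensorMod ((Scheme.Modules.pullback b).obj ((Scheme.Modules.pullback i).obj M)) T) := by
  obtain ⟨e⟩ := exists_point_module ev hev
  haveI : IsClosedImmersion (Spec.map ev) := IsClosedImmersion.spec_of_surjective ev hev
  haveI : IsClosedImmersion i := MorphismProperty.of_isPullback h.flip inferInstance
  have hO := M1.isQCoh_structureModule (Spec (CommRingCat.of k))
  haveI := PullBC11.isIso_bcMap h.flip (Coh.structureModule (Spec (CommRingCat.of k))) hO
  let bc : (Scheme.Modules.pullback ψ).obj ((Scheme.Modules.pushforward (Spec.map ev)).obj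
      (Coh.structureModule _)) ≅ (Scheme.Modules.pushforward i).obj ((Scheme.Modules.pullback q).obj
      (Coh.structureModule _)) :=
    asIso (((Scheme.Modules.pullbackPushforwardAdjunction ψ).homEquiv _ _).symm
      (PullBC11.bcMap h.flip (Coh.structureModule _)))
  obtain ⟨pf⟩ := CohFound.nonempty_push_tensor_iso i (Coh.structureModule X) (M1.isQCoh_structureModule X) M
    (Twist.isQCoh_of_isInvertible hM)
  let e1 : (DCoh.tensorRightMod M).obj ((Scheme.Modules.pullback ψ).obj
      ((tilde.functor R).obj (ModuleCat.of R (R ⧸ RingHom.ker ev.hom)))) ≅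
      (Scheme.Modules.pushforward i).obj ((Scheme.Modules.pullback i).obj M) :=
    (DCoh.tensorRightMod M).mapIso ((Scheme.Modules.pullback ψ).mapIso e ≪≫ bc ≪≫
      (Scheme.Modules.pushforward i).mapIso (PicLoc.pullbackStructureIso q)) ≪≫ pf.symm ≪≫
      (Scheme.Modules.pushforward i).mapIso (M2.tensorLUnit _)
  exact ⟨(DCoh.tensorRightMod T).mapIso ((Scheme.Modules.pullback b).mapIso
    ((Scheme.Modules.pushforward p₁).mapIso e1 ≪≫
      ((Scheme.Modules.pushforwardComp i p₁).app _) ≪≫
      (Scheme.Modules.pushforwardCongr hi).app _ ≪≫ (Scheme.Modules.pushforwardId X).app _))⟩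

variable [X'.Over (Spec (CommRingCat.of k))] [IsProper (X' ↘ Spec (CommRingCat.of k))]

/-- Dévissage of the family. -/
theorem devissage [Flat ψ] [Flat b] [IsFinite p₁] [IsArtinianRing R] (ev : R ⟶ CommRingCat.of k)
    (hmax : ∀ q : Ideal R, q.IsMaximal → q = RingHom.ker ev.hom)
    (hM : PicF.IsInvertible M) (hT : PicF.IsInvertible T) (e : ℤ)
    (hpt : (∀ j : ℕ, 1 ≤ j → Subsingleton (Coh.HH X' (fam ψ p₁ M b T (ModuleCat.of R (R ⧸ RingHom.ker ev.hom))) j)) ∧
      Curv2.euler k X' (fam ψ p₁ M b T (ModuleCat.of R (R ⧸ RingHom.ker ev.hom))) = e) :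
    ∀ (n : ℕ) (N : ModuleCat.{u} R) [Module.Finite R N], Module.length R N = (n : ℕ∞) →
      (∀ j : ℕ, 1 ≤ j → Subsingleton (Coh.HH X' (fam ψ p₁ M b T N) j)) ∧
        Curv2.euler k X' (fam ψ p₁ M b T N) = (n : ℤ) * e := by
  intro n
  induction n using Nat.strong_induction_on with
  | _ n ih =>
  intro N _ hn
  rcases subsingleton_or_nontrivial N with hN | hN
  · rw [Module.length_eq_zero_iff.2 hN] at hn
    obtain rfl : n = 0 := by exact_mod_cast hn.symm
    let S : ShortComplex (ModuleCat.{u} R) := ShortComplex.mk (𝟙 N) (0 : N ⟶ N) comp_zero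
    have hz : IsZero N := ModuleCat.isZero_of_subsingleton N
    have hS : S.ShortExact :=
      ShortComplex.ShortExact.mk' (ShortComplex.exact_of_isZero_X₂ _ hz) inferInstance ⟨fun _ _ _ => hz.eq_of_src _ _⟩
    haveI : Module.Finite R S.X₂ := ‹Module.Finite R N›
    obtain ⟨U, hU, h1, h2, h3⟩ := shortExact_fam ψ p₁ M b T hM hT hS
    have hc := isCoh_fam ψ p₁ M b T hM hT N
    have he := ChiTwist22.euler_add_coh (k := k) hU (h1 ▸ hc) (h2 ▸ hc) (h3 ▸ hc)
    rw [h1, h2, h3] at he
    have heq : Curv2.euler k X' (fam ψ p₁ M b T N) =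
        Curv2.euler k X' (fam ψ p₁ M b T N) + Curv2.euler k X' (fam ψ p₁ M b T N) := he
    refine ⟨fun j _ => ?_, by push_cast; linarith⟩
    refine Growth13.subsingleton_HH_of_isZero ?_ j
    haveI : (DCoh.tensorRightMod T).PreservesZeroMorphisms := inferInstance
    haveI : (tilde.functor R).PreservesZeroMorphisms := Functor.preservesZeroMorphisms_of_additive _
    unfold fam
    refine Functor.map_isZero _ (Functor.map_isZero _ (Functor.map_isZero _ (Functor.map_isZero _
      (Functor.map_isZero _ ?_))))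
    exact Functor.map_isZero _ hz
  · obtain ⟨K, hK⟩ := (eq_top_or_exists_le_coatom (⊥ : Submodule R N)).resolve_left bot_ne_top
    haveI : IsSimpleModule R (N ⧸ K) := isSimpleModule_iff_isCoatom.2 hK.1
    obtain ⟨q, hq, ⟨l⟩⟩ := isSimpleModule_iff_quot_maximal.1 ‹IsSimpleModule R (N ⧸ K)›
    rw [hmax q hq] at l
    let S : ShortComplex (ModuleCat.{u} R) := ShortComplex.mk (ModuleCat.ofHom K.subtype)
      (ModuleCat.ofHom (l.toLinearMap.comp K.mkQ) : N ⟶ ModuleCat.of R (R ⧸ RingHom.ker ev.hom))
      (by ext x; simp)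
    have hS : S.ShortExact := by
      refine ShortComplex.ShortExact.mk' ((ShortComplex.moduleCat_exact_iff_range_eq_ker _).2 ?_)
        ((ModuleCat.mono_iff_injective _).2 K.injective_subtype)
        ((ModuleCat.epi_iff_surjective _).2 (l.surjective.comp K.mkQ_surjective))
      show LinearMap.range K.subtype = LinearMap.ker (l.toLinearMap.comp K.mkQ)
      rw [Submodule.range_subtype, LinearEquiv.ker_comp, Submodule.ker_mkQ]
    haveI : Module.Finite R S.X₂ := ‹Module.Finite R N›
    have hlen : Module.length R N = Module.length R K + 1 := by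
      rw [Module.length_eq_add_of_exact K.subtype K.mkQ K.injective_subtype K.mkQ_surjective
        (LinearMap.exact_subtype_mkQ K), Module.length_eq_one R (N ⧸ K)]
    have hK' : Module.length R K ≠ ⊤ := fun h => by rw [hn, h, top_add] at hlen; exact ENat.coe_ne_top n hlen
    obtain ⟨m, hm⟩ := ENat.ne_top_iff_exists.1 hK'
    have hmn : n = m + 1 := by rw [hn, ← hm] at hlen; exact_mod_cast hlen
    obtain ⟨hv, he⟩ := ih m (by omega) (ModuleCat.of R K) hm.symm
    obtain ⟨U, hU, h1, h2, h3⟩ := shortExact_fam ψ p₁ M b T hM hT hS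
    haveI : Module.Finite R S.X₁ := inferInstanceAs (Module.Finite R K)
    haveI : Module.Finite R S.X₃ := inferInstanceAs (Module.Finite R (R ⧸ RingHom.ker ev.hom))
    refine ⟨fun j hj => ?_, ?_⟩
    · have := subsingleton_mid (k := k) hU j (h1 ▸ hv j hj) (h3 ▸ hpt.1 j hj)
      rwa [h2] at this
    · have h := ChiTwist22.euler_add_coh (k := k) hU (h1 ▸ isCoh_fam ψ p₁ M b T hM hT S.X₁)
        (h2 ▸ isCoh_fam ψ p₁ M b T hM hT S.X₂) (h3 ▸ isCoh_fam ψ p₁ M b T hM hT S.X₃)
      rw [h1, h2, h3] at h
      rw [show fam ψ p₁ M b T N = fam ψ p₁ M b T S.X₂ from rfl, h,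
        show Curv2.euler k X' (fam ψ p₁ M b T S.X₁) = (m : ℤ) * e from he,
        show Curv2.euler k X' (fam ψ p₁ M b T S.X₃) = e from hpt.2, hmn]
      push_cast
      ring

end Groth.Agent.PP13

end
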