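import Groth.Agent.Lib.RosTrace22.Chi
import Groth.Agent.Lib.Index22.Twist
import Groth.Agent.Lib.Ample18.Ample
import Groth.Agent.Lib.Poincare22.Fibres

/-!
# Twisted multiples of an ample class on an abelian variety
-/

set_option autoImplicit false
set_option linter.style.haveILetI false
set_option linter.unusedSectionVars false
set_option backward.isDefEq.respectTransparency false
set_option backward.isDefEq.respectTransparency.types false
set_option maxHeartbeats 1000000

universe u

open CategoryTheory CategoryTheory.Limits MonoidalCategory CartesianMonoidalCategory AlgebraicGeometry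
open scoped MonObj GrpObj

noncomputable section

namespace Groth.Agent.PP13

open AlgEquiv22 MumVan22 Index22

noncomputable local instance instLawPP13 (Y : Scheme.{u}) : PicGrp.Law Y := M2.law Y

variable {k : Type u} [Field k] [IsAlgClosed k] {A : Over (Spec (CommRingCat.of k))} [GrpObj A] [IsProper A.hom]
  [GeometricallyIntegral A.hom]

/-- A class differing from a positive multiple of an ample one by a translation invariant one. -/
theorem conc_and_euler {L : A.left.Modules} (hL : CohB1.IsAmple L) {W : A.left.Modules} (hW : PicF.IsInvertible W)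
    {m : ℕ} (hm : 0 < m) (h : Inv (PicGrp.cls W hW * (PicGrp.cls L hL.1 ^ m)⁻¹)) {g : ℕ}
    (hg : topologicalKrullDim A.left = g) :
    Conc W 0 ∧ @Curv2.euler k _ A.left ⟨A.hom⟩ W = (m : ℤ) ^ g * @Curv2.euler k _ A.left ⟨A.hom⟩ L := by
  have hm' : PicF.IsInvertible (CohB1.tensorPow L m) := M2.isInvertible_tensorPow hL.1 m
  have hc : PicGrp.cls (CohB1.tensorPow L m) hm' = PicGrp.cls L hL.1 ^ m :=
    Subtype.ext (by rw [PicGrp.cls_pow_val, PicGrp.cls_val])
  have ha : CohB1.IsAmple (CohB1.tensorPow L m) := (Amp.isAmple_tensorPow_iff hL.1 hm).2 hL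
  refine ⟨conc_twist hm' hW ⟨fun j hj => MumVan22.subsingleton_of_isAmple ha (Nat.pos_of_ne_zero hj),
    MumVan22.nontrivial_of_isAmple ha⟩ (hc.symm ▸ h), ?_⟩
  have h1 : RosTrace22.chi (PicGrp.cls W hW) = RosTrace22.chi (PicGrp.cls L hL.1 ^ m) := RosTrace22.chi_congr h
  obtain ⟨Q, hQh, hQ⟩ := RosTrace22.exists_form hg ![PicGrp.cls L hL.1]
  have key : ∀ j : ℕ, RosTrace22.chi (PicGrp.cls L hL.1 ^ j) = MvPolynomial.eval (fun _ => (j : ℚ)) Q := fun j => by
    simpa using hQ fun _ => j
  have h2 := RosTrace22.eval_smul_of_isHomogeneous hQh (m : ℚ) (fun _ => ((1 : ℕ) : ℚ))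
  simp only [Nat.cast_one, mul_one] at h2
  rw [key m, h2] at h1
  have h3 := key 1
  rw [pow_one, Nat.cast_one] at h3
  rw [← h3, RosTrace22.chi_cls, RosTrace22.chi_cls] at h1
  exact_mod_cast h1

variable {At : Over (Spec (CommRingCat.of k))} [GrpObj At] [IsProper At.hom] [Smooth At.hom]
  [GeometricallyConnected At.hom] [Smooth A.hom] [GeometricallyConnected A.hom]

/-- Restrictions of a Poincaré module are translation invariant. -/
theorem inv_slice {φ : ∀ T : Over (Spec (CommRingCat.of k)), PicF.Cl (PicF.XT A.hom T) → (T ⟶ At)}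
    (hφ : AbDual.IsDualAV Scheme.fppfPrecoverage A At φ) {P : (PicF.XT A.hom At).Modules}
    (hP : PicF.IsInvertible P) (hξ : AbDual.IsPoincareCl A At φ (PicF.cl P))
    (α : 𝟙_ (Over (Spec (CommRingCat.of k))) ⟶ At) :
    Inv (pb (lift (𝟙 A) (toUnit A ≫ α)) (PicGrp.cls P hP)) := by
  refine Add.toInv fun V f g => ?_
  have e : ∀ q : V ⟶ A, q ≫ lift (𝟙 A) (toUnit A ≫ α) = lift q (toUnit V ≫ α) := fun q => by
    apply CartesianMonoidalCategory.hom_ext <;> simp
  rw [pb_pb, pb_pb, pb_pb, e, e, e]
  apply Subtype.ext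
  rw [PicGrp.mul_val, PicGrp.pullHom_apply_val, PicGrp.pullHom_apply_val, PicGrp.pullHom_apply_val, PicGrp.cls_val]
  exact Poincare22.pull_lift_mul hφ hξ f g (toUnit V ≫ α)

end Groth.Agent.PP13

end
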