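import Groth.Prelude.Def_ExtPow2
import Groth.Prelude.Def_CohB1
import Groth.Agent.Lib.Wedge2.Basic
import Groth.Agent.Lib.TensorMod.Stalk
import Groth.Agent.Lib.CohFound.ModQuot
import Groth.Agent.Lib.VB17.Sub
import Groth.Agent.Lib.CurveCoh17.Integral
import Groth.Agent.Lib.FitGen26.Basic

/-!
Multiplication of global sections of a generically generated bundle with those of its determinant.
-/

set_option autoImplicit false
set_option linter.style.haveILetI false
set_option linter.unusedSectionVars false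
set_option backward.isDefEq.respectTransparency false
set_option backward.isDefEq.respectTransparency.types false
set_option maxHeartbeats 1600000

universe u

open CategoryTheory Limits AlgebraicGeometry Opposite TopologicalSpace TensorProduct

noncomputable section

namespace Groth.Agent.PP13

section algebra

variable {R : Type*} [CommRing R] {M N : Type*} [AddCommGroup M] [Module R M] [AddCommGroup N] [Module R N]

/-- Every `r`-vector wedge in a free module of rank `r` is a multiple of that of a basis. -/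
theorem wedge_eq_det_smul {r : ℕ} (b : Module.Basis (Fin r) R M) (w : Fin r → M) :
    exteriorPower.ιMulti R r w = b.det w • exteriorPower.ιMulti R r ⇑b := by
  have h : exteriorPower.ιMulti R r (M := M) =
      (LinearMap.toSpanSingleton R _ (exteriorPower.ιMulti R r ⇑b)).compAlternatingMap b.det := by
    refine b.ext_alternating fun v hv => ?_
    let σ : Equiv.Perm (Fin r) := Equiv.ofBijective v (Finite.injective_iff_bijective.1 hv)
    show exteriorPower.ιMulti R r (fun i => b (σ i)) = b.det (fun i => b (σ i)) • exteriorPower.ιMulti R r ⇑b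
    rw [show (fun i => b (σ i)) = ⇑b ∘ σ from rfl, AlternatingMap.map_perm, AlternatingMap.map_perm,
      Module.Basis.det_self, smul_assoc, one_smul]
  exact congrArg (fun f => f w) h

/-- The alternating contraction of `r + 1` vectors in a free module of rank `r` vanishes. -/
theorem sum_tmul_wedge_eq_zero {r : ℕ} (b : Module.Basis (Fin r) R M) (v : Fin (r + 1) → M)
    (g : ↥(⋀[R]^r M) →ₗ[R] N) :
    ∑ i : Fin (r + 1), ((-1 : ℤ) ^ (i : ℕ)) •
      (v i ⊗ₜ[R] g (exteriorPower.ιMulti R r fun j => v (i.succAbove j))) = 0 := by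
  have key : ∑ i : Fin (r + 1), ((-1 : R) ^ (i : ℕ) * b.det (fun j => v (i.succAbove j))) • v i = 0 := by
    refine b.ext_elem fun l => ?_
    rw [map_sum, map_zero, Finsupp.finset_sum_apply, Finsupp.zero_apply]
    let A : Matrix (Fin (r + 1)) (Fin (r + 1)) R :=
      Matrix.of fun a i => Fin.cases (b.repr (v i) l) (fun m => b.repr (v i) m) a
    have hA : A.det = 0 := Matrix.det_zero_of_row_eq (i := 0) (j := l.succ) (Fin.succ_ne_zero l).symm
      (funext fun i => by simp [A])
    rw [← hA, Matrix.det_succ_row_zero]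
    refine Finset.sum_congr rfl fun i _ => ?_
    rw [map_smul, Finsupp.smul_apply, smul_eq_mul, Module.Basis.det_apply, mul_right_comm]
    congr 1
  calc _ = (∑ i : Fin (r + 1), ((-1 : R) ^ (i : ℕ) * b.det (fun j => v (i.succAbove j))) • v i) ⊗ₜ[R]
        g (exteriorPower.ιMulti R r ⇑b) := ?_
    _ = 0 := by rw [key, zero_tmul]
  rw [TensorProduct.sum_tmul]
  refine Finset.sum_congr rfl fun i _ => ?_
  rw [wedge_eq_det_smul b (fun j => v (i.succAbove j)), map_smul, TensorProduct.tmul_smul, mul_smul,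
    ← TensorProduct.smul_tmul', ← TensorProduct.smul_tmul', ← Int.cast_smul_eq_zsmul R]
  push_cast
  rfl

/-- Over a field, a vector outside a subspace has a dual functional killing the subspace. -/
theorem exists_dual_of_isField (hR : IsField R) (p : Submodule R M) {x : M} (hx : x ∉ p) :
    ∃ f : M →ₗ[R] R, f x = 1 ∧ ∀ y ∈ p, f y = 0 := by
  letI := hR.toField
  obtain ⟨f, hf, hfp⟩ := Submodule.exists_dual_map_eq_bot_of_notMem hx inferInstance
  refine ⟨(f x)⁻¹ • f, inv_mul_cancel₀ hf, fun y hy => ?_⟩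
  have h0 : f y = 0 := LinearMap.mem_ker.1 ((LinearMap.le_ker_iff_map).2 hfp hy)
  show (f x)⁻¹ * f y = 0
  rw [h0, mul_zero]

end algebra

variable {X : Scheme.{u}} {E D : X.Modules} {r : ℕ}

/-- A basis of the sections over every small affine open of a basis open. -/
theorem exists_basis_of_isBas {D₀ : X.Opens} {e : Fin r → Γ(E, D₀)} (he : P1Split.IsBas E D₀ e)
    {V : X.Opens} (h : V ≤ D₀) : Nonempty (Module.Basis (Fin r) Γ(X, V) Γ(E, V)) :=
  ⟨Module.Basis.ofEquivFun (LinearEquiv.ofBijective
    (Fintype.linearCombination Γ(X, V) fun i => M1.mres E h (e i)) (he V h)).symm⟩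

/-- Wedges of global sections. -/
theorem exists_wedge
    (φ : ∀ U : X.affineOpens, (D.val.obj (op U.1)) ≃ₗ[Γ(X, U.1)] ↥(⋀[Γ(X, U.1)]^r (E.val.obj (op U.1))))
    (hφ : ∀ (U V : X.affineOpens) (h : V.1 ≤ U.1) (e : Fin r → E.val.obj (op U.1)),
      D.val.map (homOfLE h).op ((φ U).symm (exteriorPower.ιMulti _ r e)) =
        (φ V).symm (exteriorPower.ιMulti _ r (fun j => E.val.map (homOfLE h).op (e j))))
    (v : Fin r → Γ(E, (⊤ : X.Opens))) :
    ∃ w : Γ(D, (⊤ : X.Opens)), ∀ (V : X.affineOpens),
      M1.mres D (le_top : V.1 ≤ ⊤) w =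
        (φ V).symm (exteriorPower.ιMulti _ r fun j => M1.mres E (le_top : V.1 ≤ ⊤) (v j)) := by
  obtain ⟨w, hw, -⟩ := Wedge2.exists_glue_section KoszShH13.isAffBasis_top D ⊤
    (fun V _ hV => (φ V).symm (exteriorPower.ιMulti _ r fun j => M1.mres E hV (v j)))
    fun V _ hV W _ h => (hφ V W h _).trans (congrArg (fun q => (φ W).symm (exteriorPower.ιMulti _ r q))
      (funext fun j => M1.mres_mres E _ _ _))
  exact ⟨w, fun V => hw V trivial le_top⟩

open CurveCoh17 in
/-- A generically generated bundle has global sections giving a basis at the generic point. -/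
theorem exists_generic_basis [IsIntegral X] (hE : FlatMod.IsFinLocFreeOfRank r E)
    (hgen : ∃ (U : X.Opens) (J : Type u) (s : J → (Coh.structureModule X ⟶ E)),
      (U : Set ↥X).Nonempty ∧ Epi ((Scheme.Modules.restrictFunctor U.ι).map (Sigma.desc s))) :
    ∃ t : Fin r → Γ(E, (⊤ : X.Opens)), LinearIndependent (X.presheaf.stalk (genericPoint X))
      fun i => (E.presheaf.germ ⊤ (genericPoint X) trivial (t i) : E.presheaf.stalk (genericPoint X)) := by
  classical
  obtain ⟨U, J, s, hU, hepi⟩ := hgen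
  let x := genericPoint X
  have hxU : x ∈ U := ((genericPoint_spec X).mem_open_set_iff U.isOpen).2 (by simpa using hU)
  letI : Field (X.presheaf.stalk x) := inferInstanceAs (Field X.functionField)
  let p : (M1.fr J : X.Modules) ⟶ E := Sigma.desc s
  haveI : Epi ((Scheme.Modules.restrictFunctor U.ι).map p) := hepi
  have hsurj : Function.Surjective ((M1.stalkAb x).map p) := by
    intro b
    let i := Scheme.Modules.restrictStalkNatIso U.ι (⟨x, hxU⟩ : U)
    obtain ⟨a, ha⟩ := (M1.epi_iff_stalk ((Scheme.Modules.restrictFunctor U.ι).map p)).1 inferInstance ⟨x, hxU⟩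
      ((i.inv.app E) b)
    refine ⟨(i.hom.app (M1.fr J : X.Modules)) a, ?_⟩
    have h1 := ConcreteCategory.congr_hom (i.hom.naturality p) a
    refine h1.symm.trans ((congrArg (i.hom.app E) ha).trans ?_)
    exact ConcreteCategory.congr_hom (i.inv_hom_id_app E) b
  let σ : J → E.presheaf.stalk x := fun j => E.presheaf.germ ⊤ x trivial ((s j).app ⊤ (M1.one ⊤))
  have hspan : Submodule.span (X.presheaf.stalk x) (Set.range σ) = ⊤ := by
    refine eq_top_iff.2 fun b _ => ?_
    obtain ⟨a, rfl⟩ := hsurj b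
    refine CohFound.stalk_map_mem p x (Submodule.span (X.presheaf.stalk x) (Set.range σ)).toAddSubgroup
      (fun j c => ?_) a
    have hj : M1.ιF j ≫ p = M1.secHom ((s j).app ⊤ (M1.one ⊤)) :=
      M1.unit_hom_ext ((congrArg (fun f => Scheme.Modules.Hom.app f ⊤ (M1.one ⊤)) (Sigma.ι_desc s j)).trans
        (M1.secHom_app_one _).symm)
    obtain ⟨d, -, hd⟩ := stalkLin_secHom ((s j).app ⊤ (M1.one ⊤)) x c
    rw [← M1.stalk_comp_apply, hj]
    show stalkLin _ x c ∈ Submodule.span _ _
    rw [hd]
    exact Submodule.smul_mem _ _ (Submodule.subset_span ⟨j, rfl⟩)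
  obtain ⟨b, hb, hbs, hli⟩ := exists_linearIndependent (X.presheaf.stalk x) (Set.range σ)
  obtain ⟨e₀⟩ := nonempty_stalk_equiv hE x
  haveI : Module.Finite (X.presheaf.stalk x) (E.presheaf.stalk x) := Module.Finite.equiv e₀.symm
  let B := Module.Basis.mk hli (by rw [Subtype.range_coe, hbs, hspan])
  haveI : Finite b := Module.Finite.finite_basis B
  letI : Fintype b := Fintype.ofFinite b
  have hcard : Fintype.card b = r := by
    rw [← Module.finrank_eq_card_basis B, VB17.finrank_stalk hE x]
  let f : Fin r ≃ b := (Fintype.equivFinOfCardEq hcard).symm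
  choose j hj using fun i : Fin r => hb (f i).2
  refine ⟨fun i => (s (j i)).app ⊤ (M1.one ⊤), ?_⟩
  have := hli.comp f f.injective
  convert this using 1
  exact funext fun i => hj i

/-- The wedge of sections independent at the generic point is nonzero on affine opens with bases. -/
theorem wedge_ne_zero [IsIntegral X] {V : X.Opens} (hxV : genericPoint X ∈ V) (b : Module.Basis (Fin r) Γ(X, V) Γ(E, V))
    (v : Fin r → Γ(E, V))
    (hv : LinearIndependent (X.presheaf.stalk (genericPoint X))
      fun i => (E.presheaf.germ V (genericPoint X) hxV (v i) : E.presheaf.stalk (genericPoint X))) :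
    exteriorPower.ιMulti Γ(X, V) r v ≠ 0 := by
  classical
  intro h
  haveI : Nonempty V := ⟨⟨_, hxV⟩⟩
  have hdet : (b.toMatrix v).det = 0 := by
    rw [← Module.Basis.det_apply, ← exteriorPower.alternatingMapLinearEquiv_apply_ιMulti b.det v, h, map_zero]
  obtain ⟨c, hc, hcv⟩ := Matrix.exists_mulVec_eq_zero_iff.2 hdet
  have hsum : ∑ j, c j • v j = 0 := by
    refine b.ext_elem fun i => ?_
    rw [map_sum, map_zero, Finsupp.finset_sum_apply, Finsupp.zero_apply]
    refine Eq.trans (Finset.sum_congr rfl fun j _ => ?_) (congrFun hcv i)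
    rw [map_smul, Finsupp.smul_apply, smul_eq_mul, mul_comm]
    rfl
  refine hc (funext fun j => ?_)
  have h0 := Fintype.linearIndependent_iff.1 hv (fun j => X.presheaf.germ V _ hxV (c j)) (by
    rw [Finset.sum_congr rfl (fun j _ => (M1.germ_smul E hxV (c j) (v j)).symm), ← map_sum, hsum, map_zero]) j
  exact germ_injective_of_isIntegral X _ hxV (h0.trans (map_zero (X.presheaf.germ V _ hxV).hom).symm)

/-- A section of a sheafified presheaf killed locally is killed. -/
theorem toSheafify_eq_zero {T : TopCat.{u}} (P : (Opens T)ᵒᵖ ⥤ AddCommGrpCat.{u}) (z : P.obj (op ⊤))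
    (h : ∀ x : T, ∃ V : Opens T, x ∈ V ∧ P.map (homOfLE (le_top : V ≤ ⊤)).op z = 0) :
    (toSheafify (Opens.grothendieckTopology T) P).app (op ⊤) z = 0 := by
  choose V hxV hV using h
  let F : TopCat.Sheaf AddCommGrpCat.{u} T := (presheafToSheaf (Opens.grothendieckTopology T) AddCommGrpCat.{u}).obj P
  refine TopCat.Sheaf.eq_of_locally_eq' F V ⊤ (fun x => homOfLE le_top)
    (fun x _ => Opens.mem_iSup.2 ⟨x, hxV x⟩) _ _ fun x => ?_
  rw [map_zero]
  refine Eq.trans ?_ ((congrArg ((toSheafify (Opens.grothendieckTopology T) P).app (op (V x))) (hV x)).trans (map_zero _))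
  exact (ConcreteCategory.congr_hom ((toSheafify (Opens.grothendieckTopology T) P).naturality
    (homOfLE (le_top : V x ≤ ⊤)).op) z).symm

open M2 in
/-- The multiplication of sections of a generically generated bundle and of its determinant is not injective
when there are more sections than the rank. -/
theorem not_injective_mul [IsIntegral X] (hE : FlatMod.IsFinLocFreeOfRank r E) (hfield : IsField Γ(X, ⊤))
    (hgen : ∃ (U : X.Opens) (J : Type u) (s : J → (Coh.structureModule X ⟶ E)),
      (U : Set ↥X).Nonempty ∧ Epi ((Scheme.Modules.restrictFunctor U.ι).map (Sigma.desc s)))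
    (hlt : ∀ t : Fin r → Γ(E, (⊤ : X.Opens)), ∃ s₀, s₀ ∉ Submodule.span Γ(X, ⊤) (Set.range t))
    (hD : ExtPow.IsExtPow r E D) :
    ¬ Function.Injective
      ((toSheafify (Opens.grothendieckTopology ↥X) (CohB1.tensorPre E D).presheaf).app (Opposite.op ⊤)) := by
  classical
  intro hinj
  obtain ⟨φ, hφ⟩ := hD
  obtain ⟨t, ht⟩ := exists_generic_basis hE hgen
  obtain ⟨s₀, hs₀⟩ := hlt t
  choose W hW using exists_wedge φ hφ
  let v : Fin (r + 1) → Γ(E, (⊤ : X.Opens)) := Fin.cons s₀ t
  let z : Γ(E, (⊤ : X.Opens)) ⊗[Γ(X, ⊤)] Γ(D, (⊤ : X.Opens)) :=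
    ∑ i : Fin (r + 1), ((-1 : ℤ) ^ (i : ℕ)) • (v i ⊗ₜ[Γ(X, ⊤)] W (fun j => v (i.succAbove j)))
  have hz : z = 0 := by
    refine hinj (Eq.trans ?_ (map_zero _).symm)
    refine toSheafify_eq_zero (CohB1.tensorPre E D).presheaf z fun x => ?_
    obtain ⟨D₀, e, hxD, he⟩ := P1Split.exists_isBas_nhd hE x
    obtain ⟨V, -, hxV, hVD⟩ := KoszShH13.isAffBasis_top D₀ x hxD
    obtain ⟨b⟩ := exists_basis_of_isBas he hVD
    refine ⟨V.1, hxV, ?_⟩
    show rs (CohB1.tensorPre E D) (le_top : V.1 ≤ ⊤) z = 0
    simp only [z, map_sum, map_zsmul]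
    have h0 := sum_tmul_wedge_eq_zero b (fun i => M1.mres E (le_top : V.1 ≤ ⊤) (v i)) (φ V).symm.toLinearMap
    refine Eq.trans (Finset.sum_congr rfl fun i _ => ?_) h0
    congr 1
    refine Eq.trans (rs_tm (CohB1.toPMod E) (CohB1.toPMod D) _ (v i) (W fun j => v (i.succAbove j))) ?_
    exact congrArg (fun q => M1.mres E (le_top : V.1 ≤ ⊤) (v i) ⊗ₜ[Γ(X, V.1)] q) (hW _ V)
  obtain ⟨lam, hl1, hl0⟩ := exists_dual_of_isField hfield _ hs₀
  have hWt : W t = 0 := by
    have h1 := congrArg (TensorProduct.lift ((LinearMap.lsmul Γ(X, ⊤) Γ(D, (⊤ : X.Opens))).comp lam)) hz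
    rw [map_zero] at h1
    simp only [z, map_sum, map_zsmul, TensorProduct.lift.tmul, LinearMap.comp_apply, LinearMap.lsmul_apply] at h1
    rw [Fin.sum_univ_succ, Finset.sum_eq_zero (fun i _ => by
      rw [show lam (v i.succ) = 0 from hl0 _ (Submodule.subset_span ⟨i, by simp [v]⟩), zero_smul, smul_zero]),
      add_zero] at h1
    simpa [v, hl1] using h1
  obtain ⟨D₀, e, hxD, he⟩ := P1Split.exists_isBas_nhd hE (genericPoint X)
  obtain ⟨V, -, hxV, hVD⟩ := KoszShH13.isAffBasis_top D₀ _ hxD
  obtain ⟨b⟩ := exists_basis_of_isBas he hVD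
  refine wedge_ne_zero hxV b (fun i => M1.mres E (le_top : V.1 ≤ ⊤) (t i)) ?_ ?_
  · simpa only [M1.germ_mres] using ht
  · refine (φ V).symm.injective ((hW t V).symm.trans ?_)
    rw [hWt, map_zero, map_zero]

end Groth.Agent.PP13
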