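import Groth.Prelude.Def_OmegaPn
import Groth.Agent.Lib.PP12.Chart
import Groth.Agent.Lib.BlowUp3.Pow
import Groth.Agent.Lib.LimH13.KerFG
import Groth.Agent.Lib.SmoothReg17.Basic
import Groth.Agent.Lib.SmDim19.RelDimVariety
import Groth.Agent.Lib.AbRigid.SmoothGI
import Groth.Agent.Lib.AlgSpDecent.MonoPoint
import Groth.Agent.S5778

/-!
# The neighbourhoods of the diagonal of a smooth group over a field
-/

set_option autoImplicit false
set_option linter.style.haveILetI false
set_option linter.unusedSectionVars false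
set_option backward.isDefEq.respectTransparency false
set_option backward.isDefEq.respectTransparency.types false
set_option maxHeartbeats 1000000

universe u

open CategoryTheory CategoryTheory.Limits MonoidalCategory CartesianMonoidalCategory AlgebraicGeometry
open scoped MonObj GrpObj

noncomputable section

namespace Groth.Agent.PP13

variable {k : Type u} [Field k]

/-- The length of a quotient by a power of a maximal ideal with regular localisation. -/
theorem length_quotient_pow {B : Type u} [CommRing B] [IsNoetherianRing B] (p : Ideal B) [p.IsMaximal]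
    (O : Type u) [CommRing O] [Algebra B O] [IsLocalization.AtPrime O p] [IsRegularLocalRing O] {g : ℕ}
    (hg : ringKrullDim O = g) (n : ℕ) :
    Module.length B (B ⧸ p ^ (n + 1)) = ((n + g).choose g : ℕ∞) := by
  let e := IsLocalization.AtPrime.equivQuotMaximalIdealPow p O (n + 1)
  let M := O ⧸ IsLocalRing.maximalIdeal O ^ (n + 1)
  have h1 : Module.length B M = Module.length M M :=
    Module.length_eq_of_surjective fun x => by
      obtain ⟨b, hb⟩ := Ideal.Quotient.mk_surjective (e.symm x)
      refine ⟨b, ?_⟩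
      rw [← e.apply_symm_apply x, ← hb]
      exact (e.commutes b).symm
  have h2 : Module.length O M = Module.length M M :=
    Module.length_eq_of_surjective Ideal.Quotient.mk_surjective
  have hd : Module.finrank (IsLocalRing.ResidueField O) (IsLocalRing.CotangentSpace O) = g := by
    have h := (isRegularLocalRing_iff O).1 ‹_›
    rw [hg, IsLocalRing.spanFinrank_maximalIdeal_eq_finrank_cotangentSpace_of_fg
      (IsNoetherian.noetherian _)] at h
    exact_mod_cast h
  rw [e.toLinearEquiv.length_eq, h1, ← h2, (Groth.Agent.S5778.result O).1 ‹_› n, hd, Nat.choose_symm_add]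

/-- The maximal ideals of a quotient by a power of a maximal ideal. -/
theorem eq_map_of_isMaximal {B : Type u} [CommRing B] {p I : Ideal B} [hp : p.IsMaximal] {n : ℕ}
    (hI : I = p ^ (n + 1)) (q : Ideal (B ⧸ I)) [q.IsMaximal] : q = p.map (Ideal.Quotient.mk I) := by
  haveI : q.IsPrime := Ideal.IsMaximal.isPrime ‹_›
  have hle : p ≤ q.comap (Ideal.Quotient.mk I) := by
    refine (Ideal.IsPrime.pow_le_iff (n := n + 1) (Nat.succ_ne_zero n)).1 ?_
    rw [← hI]
    intro r hr
    rw [Ideal.mem_comap, Ideal.Quotient.eq_zero_iff_mem.2 hr]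
    exact q.zero_mem
  haveI := Ideal.IsPrime.comap (Ideal.Quotient.mk I) (K := q)
  rw [hp.eq_of_le (Ideal.IsPrime.comap (Ideal.Quotient.mk I) (K := q)).ne_top hle,
    Ideal.map_comap_of_surjective _ Ideal.Quotient.mk_surjective]

/-- The quotient by an ideal equal to a power of a maximal ideal with regular localisation. -/
theorem length_quotient_of_eq {B : Type u} [CommRing B] [IsNoetherianRing B] {p I : Ideal B} [p.IsMaximal] {n : ℕ}
    (hI : I = p ^ (n + 1)) (O : Type u) [CommRing O] [Algebra B O] [IsLocalization.AtPrime O p]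
    [IsRegularLocalRing O] {g : ℕ} (hg : ringKrullDim O = g) :
    Module.length (B ⧸ I) (B ⧸ I) = ((n + g).choose g : ℕ∞) ∧ IsArtinianRing (B ⧸ I) := by
  subst hI
  have h := length_quotient_pow p O hg n
  rw [Module.length_eq_of_surjective (S := B) (R := B ⧸ p ^ (n + 1)) Ideal.Quotient.mk_surjective] at h
  refine ⟨h, ?_⟩
  have : IsFiniteLength (B ⧸ p ^ (n + 1)) (B ⧸ p ^ (n + 1)) :=
    Module.length_ne_top_iff.1 (by rw [h]; exact ENat.coe_ne_top _)
  exact (isFiniteLength_iff_isNoetherian_isArtinian.1 this).2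

/-- A closed point through an affine open. -/
theorem point_data {X : Scheme.{u}} (i : Spec (CommRingCat.of k) ⟶ X) [IsClosedImmersion i] {U : X.Opens}
    (hU : IsAffineOpen U) (hiU : i ⟨⊥, Ideal.isPrime_bot⟩ ∈ U) :
    (i.ker.ideal ⟨U, hU⟩).IsMaximal ∧ IsClosed ({i ⟨⊥, Ideal.isPrime_bot⟩} : Set X) ∧
      (hU.primeIdealOf ⟨_, hiU⟩).asIdeal = i.ker.ideal ⟨U, hU⟩ := by
  let pt : Spec (CommRingCat.of k) := (⟨⊥, Ideal.isPrime_bot⟩ : PrimeSpectrum k)
  haveI : Subsingleton (Spec (CommRingCat.of k)) := inferInstanceAs (Subsingleton (PrimeSpectrum k))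
  have hpre : i ⁻¹ᵁ U = ⊤ := by
    refine top_le_iff.1 fun x _ => ?_
    rw [Subsingleton.elim x pt]
    exact hiU
  have hmax : (i.ker.ideal ⟨U, hU⟩).IsMaximal := by
    let r := (Spec (CommRingCat.of k)).presheaf.map (eqToHom hpre.symm).op ≫
      (Scheme.ΓSpecIso (CommRingCat.of k)).hom
    have hb := ConcreteCategory.bijective_of_isIso r
    have hs : Function.Surjective (i.app U ≫ r).hom := hb.2.comp (i.app_surjective U hU)
    rw [Scheme.Hom.ker_apply, ← RingHom.ker_comp_of_injective (i.app U).hom hb.1, ← CommRingCat.hom_comp]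
    exact RingHom.ker_isMaximal_of_surjective (K := k) _ hs
  refine ⟨hmax, ?_, ?_⟩
  · have : ({i pt} : Set X) = Set.range i := by
      refine (Set.singleton_subset_iff.2 (Set.mem_range_self pt)).antisymm ?_
      rintro _ ⟨x, rfl⟩
      rw [Subsingleton.elim x pt]
      rfl
    rw [this]
    exact i.isClosedEmbedding.isClosed_range
  · refine (hmax.eq_of_le (hU.primeIdealOf ⟨_, hiU⟩).2.ne_top fun r hr => ?_).symm
    by_contra hnot
    have hb : i pt ∈ X.basicOpen r := by
      have h1 : hU.fromSpec (hU.primeIdealOf ⟨_, hiU⟩) ∈ X.basicOpen r := by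
        show hU.primeIdealOf ⟨_, hiU⟩ ∈ hU.fromSpec ⁻¹ᵁ X.basicOpen r
        rw [hU.fromSpec_preimage_basicOpen r]
        exact hnot
      rwa [hU.fromSpec_primeIdealOf] at h1
    have h0 : i.app U r = 0 := by
      rwa [Scheme.Hom.ker_apply, RingHom.mem_ker] at hr
    have hb' : pt ∈ i ⁻¹ᵁ X.basicOpen r := hb
    rw [Scheme.preimage_basicOpen, h0, Scheme.basicOpen_zero] at hb'
    exact hb'

/-- The chart of a neighbourhood around an affine open containing the subscheme. -/
theorem surjective_chart {Y X : Scheme.{u}} (i : Y ⟶ X) [IsClosedImmersion i] (n : ℕ) {U : X.Opens}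
    (hU : IsAffineOpen U) (h : ∀ y, i y ∈ U) : Surjective ((i.ker ^ (n + 1)).subschemeCover.f ⟨U, hU⟩) := by
  refine ⟨fun z => ?_⟩
  obtain ⟨y, hy⟩ := PrinPart.toInfNbhd_surjective i n z
  have h2 : (i.ker ^ (n + 1)).subschemeι z = i y := by
    have := Scheme.Hom.comp_apply (PrinPart.toInfNbhd i n) (PrinPart.infNbhdι i n) y
    rw [PrinPart.toInfNbhd_ι, hy] at this
    rw [this]
    rfl
  have hz : z ∈ ((i.ker ^ (n + 1)).subschemeCover.f ⟨U, hU⟩).opensRange := by
    rw [Scheme.IdealSheafData.opensRange_subschemeCover_map, Scheme.Hom.mem_preimage, h2]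
    exact h y
  exact hz

/-- A pulled back closed subscheme. -/
theorem exists_isPullback_subscheme {V X : Scheme.{u}} (f : V ⟶ X) (I : X.IdealSheafData) (K : V.IdealSheafData)
    (h : K = I.comap f) : ∃ ψ : K.subscheme ⟶ I.subscheme, IsPullback K.subschemeι ψ f I.subschemeι := by
  subst h
  refine ⟨(I.comapIso f).hom ≫ pullback.snd f I.subschemeι,
    IsPullback.of_iso_pullback ⟨?_⟩ (I.comapIso f) (Scheme.IdealSheafData.comapIso_hom_fst I f) rfl⟩
  rw [← Scheme.IdealSheafData.comapIso_hom_fst I f, Category.assoc, Category.assoc, pullback.condition]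

variable (A : Over (Spec (CommRingCat.of k))) [GrpObj A]

/-- The difference of two points. -/
abbrev dif : A ⊗ A ⟶ A := (fst A A)⁻¹ * snd A A

theorem isPullback_diag : IsPullback (pullback.diagonal A.hom) A.hom (dif A).left η[A].left := by
  have hΔ : (lift (𝟙 A) (𝟙 A)).left = pullback.diagonal A.hom := by
    apply pullback.hom_ext
    · exact (congrArg CommaMorphism.left (lift_fst (𝟙 A) (𝟙 A))).trans (pullback.lift_fst _ _ _).symm
    · exact (congrArg CommaMorphism.left (lift_snd (𝟙 A) (𝟙 A))).trans (pullback.lift_snd _ _ _).symm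
  have hone : toUnit A ≫ η[A] = (1 : A ⟶ A) := Hom.one_def.symm
  have w : lift (𝟙 A) (𝟙 A) ≫ dif A = toUnit A ≫ η[A] := by
    rw [hone, MonObj.comp_mul, GrpObj.comp_inv, lift_fst, lift_snd, inv_mul_cancel]
  have hp : IsPullback (lift (𝟙 A) (𝟙 A)) (toUnit A) (dif A) η[A] :=
    IsPullback.of_isLimit' ⟨w⟩ (PullbackCone.IsLimit.mk w (fun s => s.fst ≫ fst A A)
      (fun s => by
        have h := s.condition
        rw [MonObj.comp_mul, GrpObj.comp_inv, toUnit_unique s.snd (toUnit _), ← Hom.one_def,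
          inv_mul_eq_one] at h
        apply CartesianMonoidalCategory.hom_ext
        · simp
        · simpa using h)
      (fun s => toUnit_unique _ _) (fun s m h1 _ => by rw [← h1]; simp))
  have := hp.map (Over.forget _)
  simp only [Over.forget_map, Over.forget_obj, hΔ] at this
  exact this

theorem isPullback_fst_dif : IsPullback (fst A A).left (dif A).left A.hom A.hom := by
  let s : A ⊗ A ⟶ A ⊗ A := lift (fst A A) (dif A)
  let t : A ⊗ A ⟶ A ⊗ A := lift (fst A A) (fst A A * snd A A)
  have h1 : s ≫ t = 𝟙 _ := by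
    apply CartesianMonoidalCategory.hom_ext <;> simp [s, t, dif, MonObj.comp_mul]
  have h2 : t ≫ s = 𝟙 _ := by
    apply CartesianMonoidalCategory.hom_ext <;> simp [s, t, dif, MonObj.comp_mul, GrpObj.comp_inv]
  haveI : IsIso s := ⟨_, h1, h2⟩
  haveI : IsIso s.left := inferInstanceAs (IsIso ((Over.forget _).map s))
  refine IsPullback.of_iso_pullback ⟨?_⟩ (asIso s.left) ?_ ?_
  · exact (Over.w (fst A A)).trans (Over.w (dif A)).symm
  · exact congrArg CommaMorphism.left (lift_fst (fst A A) (dif A))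
  · exact congrArg CommaMorphism.left (lift_snd (fst A A) (dif A))

variable [IsProper A.hom] [Smooth A.hom] [GeometricallyConnected A.hom]

/-- The neighbourhood of the origin is the spectrum of an Artinian ring. -/
theorem exists_origin (n : ℕ) {g : ℕ} (hg : topologicalKrullDim A.left = g) :
    ∃ (R : CommRingCat.{u}) (_ : IsNoetherianRing R) (_ : IsArtinianRing R) (ev : R ⟶ CommRingCat.of k)
      (e0 : Spec R ⟶ (η[A].left.ker ^ (n + 1)).subscheme) (_ : IsIso e0),
      Function.Surjective ev.hom ∧ (∀ q : Ideal R, q.IsMaximal → q = RingHom.ker ev.hom) ∧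
      Spec.map ev ≫ e0 = PrinPart.toInfNbhd η[A].left n ∧
      Module.length R R = ((n + g).choose g : ℕ∞) := by
  classical
  haveI : GeometricallyIntegral A.hom := AbRigid.geometricallyIntegral_of_smooth A
  haveI : IsIntegral A.left := GeometricallyIntegral.isIntegral_of_subsingleton A.hom
  haveI : IsLocallyNoetherian A.left := LocallyOfFiniteType.isLocallyNoetherian A.hom
  haveI : IsClosedImmersion η[A].left := isClosedImmersion_of_comp_eq_id A.hom η[A].left (Over.w η[A])
  let pt : (𝟙_ (Over (Spec (CommRingCat.of k)))).left := (⟨⊥, Ideal.isPrime_bot⟩ : PrimeSpectrum k)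
  haveI hsub : Subsingleton (𝟙_ (Over (Spec (CommRingCat.of k)))).left :=
    inferInstanceAs (Subsingleton (PrimeSpectrum k))
  let e : A.left := η[A].left pt
  obtain ⟨U, hU, heU, -⟩ := exists_isAffineOpen_mem_and_subset (X := A.left) (x := e) (U := ⊤) trivial
  haveI : IsNoetherianRing Γ(A.left, U) := IsLocallyNoetherian.component_noetherian ⟨U, hU⟩
  obtain ⟨hpmax, hcl, hprime⟩ := point_data (k := k) η[A].left hU heU
  let J : A.left.IdealSheafData := η[A].left.ker ^ (n + 1)
  let R : CommRingCat.{u} := CommRingCat.of (Γ(A.left, U) ⧸ J.ideal ⟨U, hU⟩)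
  have hJ : J.ideal ⟨U, hU⟩ = η[A].left.ker.ideal ⟨U, hU⟩ ^ (n + 1) := by
    show (η[A].left.ker ^ (n + 1)).ideal ⟨U, hU⟩ = _
    rw [Scheme.IdealSheafData.ideal_pow]
    rfl
  haveI := hpmax
  have hRA : Module.length R R = ((n + g).choose g : ℕ∞) ∧ IsArtinianRing R := by
    letI := A.left.presheaf.algebra_section_stalk (⟨e, heU⟩ : U)
    haveI : IsLocalization.AtPrime (A.left.presheaf.stalk e) (η[A].left.ker.ideal ⟨U, hU⟩) := by
      have h := hU.isLocalization_stalk ⟨e, heU⟩
      show IsLocalization _ _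
      convert h using 1
      exact SetLike.ext fun x => (iff_of_eq (congrArg (fun I : Ideal Γ(A.left, U) => x ∈ I) hprime)).not.symm
    haveI := SmoothReg17.isRegularLocalRing_stalk A.hom e
    exact length_quotient_of_eq hJ (A.left.presheaf.stalk e) (SmDim19.ringKrullDim_stalk_closed A.hom hg hcl)
  obtain ⟨hlen, hRa⟩ := hRA
  haveI := hRa
  haveI : IsNoetherianRing R := inferInstanceAs (IsNoetherianRing (Γ(A.left, U) ⧸ J.ideal ⟨U, hU⟩))
  -- the origin inside its neighbourhood
  let Zι : J.subscheme ⟶ A.left := J.subschemeι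
  let ηZ : (𝟙_ (Over (Spec (CommRingCat.of k)))).left ⟶ J.subscheme := PrinPart.toInfNbhd η[A].left n
  have hηZ : ηZ ≫ Zι = η[A].left := PrinPart.toInfNbhd_ι η[A].left n
  let e0 : Spec R ⟶ J.subscheme := J.subschemeCover.f ⟨U, hU⟩
  haveI : Surjective e0 := surjective_chart η[A].left n hU fun y => by
    rw [Subsingleton.elim y pt]
    exact heU
  haveI : IsIso e0 := (isIso_iff_isOpenImmersion_and_surjective _).2 ⟨inferInstance, inferInstance⟩
  let evS : Spec (CommRingCat.of k) ⟶ Spec R := ηZ ≫ inv e0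
  let ev : R ⟶ CommRingCat.of k := Spec.preimage evS
  have hevS : Spec.map ev = evS := Spec.map_preimage _
  have hev : Function.Surjective ev.hom := by
    haveI : IsClosedImmersion ηZ := by
      haveI : IsClosedImmersion (ηZ ≫ Zι) := hηZ ▸ inferInstance
      exact IsClosedImmersion.of_comp ηZ Zι
    haveI : IsClosedImmersion (Spec.map ev) := hevS ▸ inferInstanceAs (IsClosedImmersion (ηZ ≫ inv e0))
    exact AlgSpDecent.surjective_of_isClosedImmersion ev
  have hmax : ∀ q : Ideal R, q.IsMaximal → q = RingHom.ker ev.hom := by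
    intro q hq
    haveI := RingHom.ker_isMaximal_of_surjective (K := k) ev.hom hev
    exact (eq_map_of_isMaximal hJ q).trans (eq_map_of_isMaximal hJ (RingHom.ker ev.hom)).symm
  exact ⟨R, inferInstance, inferInstance, ev, e0, inferInstance, hev, hmax,
    by rw [hevS]; simp [evS, ηZ], hlen⟩

/-- The neighbourhood of the diagonal is a constant family. -/
theorem exists_model (n : ℕ) {g : ℕ} (hg : topologicalKrullDim A.left = g) :
    ∃ (R : CommRingCat.{u}) (_ : IsNoetherianRing R) (_ : IsArtinianRing R) (ev : R ⟶ CommRingCat.of k)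
      (π : Spec R ⟶ Spec (CommRingCat.of k)) (ψ : PrinPart.nbhd A.hom n ⟶ Spec R),
      Function.Surjective ev.hom ∧ (∀ q : Ideal R, q.IsMaximal → q = RingHom.ker ev.hom) ∧
      IsPullback (PrinPart.pr1 A.hom n) ψ A.hom π ∧
      IsPullback (PrinPart.toNbhd A.hom n) A.hom ψ (Spec.map ev) ∧
      Module.length R R = ((n + g).choose g : ℕ∞) := by
  haveI : GeometricallyIntegral A.hom := AbRigid.geometricallyIntegral_of_smooth A
  haveI : IsClosedImmersion η[A].left := isClosedImmersion_of_comp_eq_id A.hom η[A].left (Over.w η[A])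
  obtain ⟨R, hRn, hRa, ev, e0, he0, hev, hmax, hfac, hlen⟩ := exists_origin A n hg
  haveI := he0
  let J : A.left.IdealSheafData := η[A].left.ker ^ (n + 1)
  let Zι : J.subscheme ⟶ A.left := J.subschemeι
  let ηZ : (𝟙_ (Over (Spec (CommRingCat.of k)))).left ⟶ J.subscheme := PrinPart.toInfNbhd η[A].left n
  have hηZ : ηZ ≫ Zι = η[A].left := PrinPart.toInfNbhd_ι η[A].left n
  let evS : Spec (CommRingCat.of k) ⟶ Spec R := ηZ ≫ inv e0
  have hevS : Spec.map ev = evS := (IsIso.eq_comp_inv e0).2 hfac
  -- the neighbourhood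
  haveI : IsClosedImmersion (pullback.diagonal A.hom) := inferInstance
  let V : Scheme.{u} := (pullback.diagonal A.hom).coborderRange
  let j : V ⟶ pullback A.hom A.hom := (pullback.diagonal A.hom).coborderRange.ι
  haveI : IsIso j := by
    have htop : (pullback.diagonal A.hom).coborderRange = ⊤ := TopologicalSpace.Opens.ext
      ((pullback.diagonal A.hom).isClosedEmbedding.isClosed_range.coborder_eq)
    haveI : Surjective j := ⟨fun x => by
      rw [← Set.mem_range, Scheme.Opens.range_ι, htop]; trivial⟩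
    exact (isIso_iff_isOpenImmersion_and_surjective _).2 ⟨inferInstance, inferInstance⟩
  have hd := (PP12.isPullback_of_mono (PrinPart.diagCl A.hom) j (pullback.diagonal A.hom)
    (Scheme.Hom.liftCoborder_ι _)).flip.paste_horiz (isPullback_diag A).flip
  rw [Category.id_comp] at hd
  have hK : (PrinPart.diagCl A.hom).ker ^ (n + 1) = J.comap (j ≫ (dif A).left) := by
    rw [BlowUp3.comap_pow, LimH13.ker_eq_of_isPullback hd.flip]
  obtain ⟨ψ₀, h₀⟩ := exists_isPullback_subscheme (j ≫ (dif A).left) J _ hK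
  have h₁ : IsPullback (PrinPart.nbhdι A.hom n) ψ₀ (dif A).left Zι :=
    h₀.of_iso (Iso.refl _) (asIso j) (Iso.refl _) (Iso.refl _)
      (by simp [PrinPart.nbhdι, PrinPart.infNbhdι, j]) (by simp) (by simp [j]) (by simp [Zι])
  have h₂ : IsPullback (PrinPart.pr1 A.hom n) ψ₀ A.hom (Zι ≫ A.hom) := h₁.paste_horiz (isPullback_fst_dif A)
  have h₃ : IsPullback (PrinPart.pr1 A.hom n) (ψ₀ ≫ inv e0) A.hom (e0 ≫ Zι ≫ A.hom) :=
    h₂.of_iso (Iso.refl _) (Iso.refl _) (asIso e0).symm (Iso.refl _) (by simp) (by simp) (by simp) (by simp)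
  have hc : PrinPart.toNbhd A.hom n ≫ ψ₀ = A.hom ≫ ηZ := by
    rw [← cancel_mono Zι, Category.assoc, ← h₁.w, PrinPart.toNbhd_ι_assoc, (isPullback_diag A).w,
      Category.assoc, hηZ]
  have h₄ : IsPullback (PrinPart.toNbhd A.hom n) A.hom ψ₀ ηZ :=
    IsPullback.of_right (by rw [PrinPart.toNbhd_ι, hηZ]; exact isPullback_diag A) hc h₁
  have h₅ : IsPullback (PrinPart.toNbhd A.hom n) A.hom (ψ₀ ≫ inv e0) evS :=
    h₄.of_iso (Iso.refl _) (Iso.refl _) (Iso.refl _) (asIso e0).symm (by simp) (by simp) (by simp)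
      (by simp [evS])
  exact ⟨R, hRn, hRa, ev, e0 ≫ Zι ≫ A.hom, ψ₀ ≫ inv e0, hev, hmax, h₃, by rw [hevS]; exact h₅, hlen⟩

end Groth.Agent.PP13

end
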